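import Groth.Agent.NLLib.Compare
import Groth.Agent.CILib.Conormal
import Groth.Agent.CILib.KoszulIdeal
import Groth.Agent.CILib.LCIFlat
import Groth.Agent.CILib.KoszulRegular
import Groth.Agent.CILib.Fibre
import Groth.Agent.LciH1Lib.Basic
import Groth.Agent.DRingLib.RegularGl
import Groth.Agent.S2189

/-!
# Local complete intersections and the naive cotangent complex
-/

set_option autoImplicit false
set_option linter.style.haveILetI false
set_option backward.isDefEq.respectTransparency false
set_option maxHeartbeats 1600000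

universe u

open CategoryTheory Algebra TensorProduct

noncomputable section

namespace Groth.Agent.NLLib

/-- The conormal module of a Koszul-regular ideal is finite projective, read on an extension. -/
theorem finite_projective_cotangent {A B : Type u} [CommRing A] [CommRing B] [Algebra A B] (E : Extension.{u} A B)
    (hI : LCI.IsKoszulRegularIdeal E.ker) : Module.Finite B E.Cotangent ∧ Module.Projective B E.Cotangent := by
  classical
  refine CILib.finite_projective_of_local_basis fun q => ?_
  let p : Ideal E.Ring := q.asIdeal.comap (algebraMap E.Ring B)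
  haveI : p.IsPrime := Ideal.IsPrime.comap _
  obtain ⟨g, hg, l, hlI, hl⟩ := CILib.exists_nearGen hI p fun x hx => by
    rw [Ideal.mem_comap, show algebraMap E.Ring B x = 0 from hx]; exact zero_mem _
  let L := Localization.Away g
  haveI : Module.Flat E.Ring L := IsLocalization.flat _ (Submonoid.powers g)
  obtain ⟨hkos, hgen⟩ := hl L (IsLocalization.Away.algebraMap_isUnit g)
  let F : Fin l.length → L := fun i => algebraMap E.Ring L (l.get i)
  have hspan : E.ker.map (algebraMap E.Ring L) = Ideal.span (Set.range F) := by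
    rw [hgen, ← Ideal.map_ofList,
      show Ideal.ofList l = Ideal.span (Set.range l.get) by rw [← RegIdealLib.ofList_ofFn, List.ofFn_get],
      Ideal.map_span, ← Set.range_comp]
    rfl
  have hH : CAlgX.IsH1Regular F := by
    have h := LciH1Lib.isH1Regular_get hkos
    have key : ∀ {m n : ℕ} (e : m = n) (u : Fin n → L), CAlgX.IsH1Regular (fun i => u (Fin.cast e i)) → CAlgX.IsH1Regular u := by
      rintro m _ rfl u h; exact h
    refine key (List.length_map (as := l) (algebraMap E.Ring L)) F ?_
    rwa [show (fun i => F (Fin.cast (List.length_map (as := l) (algebraMap E.Ring L)) i)) =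
      (l.map (algebraMap E.Ring L)).get from funext fun i => by simp [F]]
  refine ⟨algebraMap E.Ring B g, hg, l.length,
    fun i => Extension.Cotangent.mk ⟨l.get i, hlI _ (List.get_mem l i)⟩, fun x => ?_, fun s hs i => ?_⟩
  · obtain ⟨y, rfl⟩ := Extension.Cotangent.mk_surjective x
    have hy : algebraMap E.Ring L y.1 ∈ (Ideal.span (Set.range l.get)).map (algebraMap E.Ring L) := by
      rw [Ideal.map_span, ← Set.range_comp]
      exact hspan.le (Ideal.mem_map_of_mem _ y.2)
    obtain ⟨c, ⟨k, rfl⟩, hc⟩ := CILib.exists_mul_mem_of_localization (M := Submonoid.powers g) (L := L) hy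
    obtain ⟨r, hr⟩ := Ideal.mem_span_range_iff_exists_fun.1 hc
    refine ⟨k, (Submodule.mem_span_range_iff_exists_fun B).2 ⟨fun i => algebraMap E.Ring B (r i), ?_⟩⟩
    simp only [← map_pow, algebraMap_smul, ← map_smul, ← map_sum]
    congr 1
    exact Subtype.ext (by simpa using hr)
  · choose r hr using fun j => E.algebraMap_surjective (s j)
    have h2 : ∑ j, r j * l.get j ∈ E.ker ^ 2 := by
      have h : Extension.Cotangent.mk (∑ j, r j • (⟨l.get j, hlI _ (List.get_mem l j)⟩ : E.ker)) = 0 := by
        rw [map_sum, ← hs]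
        refine Finset.sum_congr rfl fun j _ => ?_
        rw [map_smul, ← hr j, algebraMap_smul]
      rw [Extension.Cotangent.mk_eq_zero_iff] at h
      simpa using h
    have h3 : ∑ j, algebraMap E.Ring L (r j) * F j ∈ Ideal.span (Set.range F) * Ideal.span (Set.range F) := by
      have h4 := Ideal.mem_map_of_mem (algebraMap E.Ring L) h2
      rw [Ideal.map_pow, hspan, pow_two, map_sum] at h4
      simpa [F] using h4
    have h5 := ConormalLib.coeff_mem_of_h1 hH _ h3 i
    rw [← hspan] at h5
    obtain ⟨c, ⟨k, rfl⟩, hc⟩ := CILib.exists_mul_mem_of_localization (M := Submonoid.powers g) (L := L) h5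
    refine ⟨k, ?_⟩
    rw [← hr i, ← map_pow, ← map_mul]
    exact hc

/-- The generators of a surjection from a polynomial ring. -/
def gens {A B : Type u} [CommRing A] [CommRing B] [Algebra A B] {n : ℕ} (φ : MvPolynomial (Fin n) A →ₐ[A] B)
    (hφ : Function.Surjective φ) : Generators A B (Fin n) :=
  .ofSurjective (fun i => φ (MvPolynomial.X i)) fun b => by
    obtain ⟨p, rfl⟩ := hφ b
    exact ⟨p, (congrArg (fun ψ => ψ p) (MvPolynomial.aeval_unique φ)).symm⟩

theorem ker_gens {A B : Type u} [CommRing A] [CommRing B] [Algebra A B] {n : ℕ} (φ : MvPolynomial (Fin n) A →ₐ[A] B)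
    (hφ : Function.Surjective φ) : (gens φ hφ).toExtension.ker = RingHom.ker φ.toRingHom :=
  congrArg RingHom.ker (congrArg AlgHom.toRingHom (MvPolynomial.aeval_unique φ).symm)

/-- `NL` of a local complete intersection is perfect of tor amplitude `[-1, 0]`. -/
theorem isPerfect_and_amp_of_isLCI {A B : Type u} [CommRing A] [CommRing B] [Algebra A B] (h : LCI.IsLCI A B) :
    DRing.IsPerfect B (LCI.NL A B) ∧ DRing.HasTorAmplitudeIn B (-1) 0 (LCI.NL A B) := by
  obtain ⟨-, n, φ, hφ, hK⟩ := h
  obtain ⟨h1, h2⟩ := finite_projective_cotangent (gens φ hφ).toExtension (ker_gens φ hφ ▸ hK)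
  exact ⟨isPerfect_NL (gens φ hφ), (hasTorAmplitude_iff_flat (gens φ hφ)).2 inferInstance⟩

attribute [local instance] Algebra.TensorProduct.rightAlgebra MvPolynomial.algebraMvPolynomial

/-- The kernel of a presentation of a flat algebra stays injective after base change. -/
theorem lTensor_ker_subtype_injective {A B k R : Type u} [CommRing A] [CommRing B] [Algebra A B] [Module.Flat A B]
    [CommRing k] [Algebra A k] {T : Type u} [CommRing T] [Algebra A T] [Algebra T B] [IsScalarTower A T B]
    [CommRing R] [Algebra A R] [Algebra k R] [Algebra T R] [IsScalarTower A k R] [IsScalarTower A T R]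
    [Algebra.IsPushout A k T R] (hT : Function.Surjective (algebraMap T B)) :
    Function.Injective ((RingHom.ker (algebraMap T B)).subtype.lTensor R) := by
  let I := RingHom.ker (algebraMap T B)
  let cI := Algebra.IsPushout.cancelBaseChange A k T R I
  let cR := Algebra.IsPushout.cancelBaseChange A k T R T
  have hc : ∀ w : k ⊗[A] I, I.subtype.lTensor R (cI.symm w) = cR.symm ((I.subtype.restrictScalars A).lTensor k w) := fun w => by
    induction w with
    | zero => simp
    | tmul s m => simp [cI, cR, Algebra.IsPushout.cancelBaseChange_symm_tmul]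
    | add a b ha hb => simp only [map_add, ha, hb]
  have hk : Function.Injective ((I.subtype.restrictScalars A).lTensor k) :=
    LinearMap.lTensor_injective_of_exact_of_flat (IsScalarTower.toAlgHom A T B).toLinearMap
      hT (I.subtype.restrictScalars A) Subtype.val_injective
      (fun z => by
        show algebraMap T B z = 0 ↔ _
        exact ⟨fun h => ⟨⟨z, h⟩, rfl⟩, by rintro ⟨w, rfl⟩; exact w.2⟩) k
  intro a b hab
  obtain ⟨a, rfl⟩ := cI.symm.surjective a
  obtain ⟨b, rfl⟩ := cI.symm.surjective b
  rw [hc, hc] at hab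
  rw [hk (cR.symm.injective hab)]

/-- The kernel of the pushout presentation is the base change of the kernel. -/
theorem bijective_mapKer {A B F : Type u} [CommRing A] [CommRing B] [Algebra A B]
    [CommRing F] [Algebra A F] [Algebra B F] [IsScalarTower A B F] {P : Extension.{u} A B} {E : Extension.{u} A F}
    (f : P.Hom E) [alg : Algebra P.Ring E.Ring] (halg : algebraMap P.Ring E.Ring = f.toRingHom)
    (hinj : Function.Injective (P.ker.subtype.lTensor E.Ring))
    (hker : E.ker ≤ P.ker.map (algebraMap P.Ring E.Ring)) :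
    Function.Bijective ((f.mapKer halg).liftBaseChange E.Ring) := by
  have key : ∀ z : E.Ring ⊗[P.Ring] P.ker, TensorProduct.rid P.Ring E.Ring (P.ker.subtype.lTensor E.Ring z) =
      E.ker.subtype ((f.mapKer halg).liftBaseChange E.Ring z) := fun z => by
    induction z with
    | zero => simp only [map_zero]
    | tmul q a =>
      simp only [LinearMap.lTensor_tmul, TensorProduct.rid_tmul, LinearMap.liftBaseChange_tmul]
      rw [Algebra.smul_def, mul_comm, halg]
      rfl
    | add a b ha hb => simp only [map_add, ha, hb]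
  refine ⟨fun a b hab => hinj ((TensorProduct.rid P.Ring E.Ring).injective ?_), ?_⟩
  · rw [key, key, hab]
  · rintro ⟨q, hq⟩
    have hq' : q ∈ P.ker.map (algebraMap P.Ring E.Ring) := hker hq
    have hmem : ∀ z ∈ P.ker.map (algebraMap P.Ring E.Ring), z ∈ E.ker :=
      Ideal.map_le_iff_le_comap.2 fun z hz => by
        rw [Ideal.mem_comap, halg]
        exact (f.mapKer halg ⟨z, hz⟩).2
    induction hq' using Submodule.span_induction with
    | mem q hq' =>
      obtain ⟨a, ha, rfl⟩ := hq'
      refine ⟨(1 : E.Ring) ⊗ₜ ⟨a, ha⟩, Subtype.ext ?_⟩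
      rw [LinearMap.liftBaseChange_tmul, one_smul]
      show (f.mapKer halg ⟨a, ha⟩ : E.Ring) = algebraMap P.Ring E.Ring a
      rw [halg]
      rfl
    | zero => exact ⟨0, map_zero _⟩
    | add a b ha hb iha ihb =>
      obtain ⟨x, hx⟩ := iha (hmem a ha)
      obtain ⟨y, hy⟩ := ihb (hmem b hb)
      exact ⟨x + y, Subtype.ext (by rw [map_add, hx, hy]; rfl)⟩
    | smul r a ha iha =>
      obtain ⟨x, hx⟩ := iha (hmem a ha)
      exact ⟨r • x, Subtype.ext (by rw [map_smul, hx]; rfl)⟩

/-- Flatness of the conormal module, read on the ideal. -/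
theorem flat_ideal_cotangent {A F : Type u} [CommRing A] [CommRing F] [Algebra A F] (E : Extension.{u} A F)
    [Module.Flat F E.Cotangent] : Module.Flat (E.Ring ⧸ E.ker) E.ker.Cotangent := by
  let J : Ideal E.Ring := E.ker
  letI algF : Algebra (E.Ring ⧸ J) F := (Ideal.Quotient.lift J (algebraMap E.Ring F) fun a ha => ha).toAlgebra
  have hbij : Function.Bijective (algebraMap (E.Ring ⧸ J) F) :=
    ⟨RingHom.lift_injective_of_ker_le_ideal J _ le_rfl,
      Ideal.Quotient.lift_surjective_of_surjective J _ E.algebraMap_surjective⟩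
  letI : Module (E.Ring ⧸ J) E.Cotangent := Module.compHom E.Cotangent (algebraMap (E.Ring ⧸ J) F)
  haveI : IsScalarTower (E.Ring ⧸ J) F E.Cotangent := ⟨fun r s x => by rw [Algebra.smul_def, mul_smul]; rfl⟩
  haveI : Module.Flat (E.Ring ⧸ J) F :=
    Module.Flat.of_linearEquiv (LinearEquiv.ofBijective (Algebra.linearMap (E.Ring ⧸ J) F) hbij).symm
  haveI : Module.Flat (E.Ring ⧸ J) E.Cotangent := Module.Flat.trans (E.Ring ⧸ J) F E.Cotangent
  let eC : E.Cotangent ≃ₗ[E.Ring ⧸ J] J.Cotangent :=
    { toFun := Extension.Cotangent.val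
      invFun := Extension.Cotangent.of
      left_inv := fun _ => rfl
      right_inv := fun _ => rfl
      map_add' := fun _ _ => rfl
      map_smul' := fun r x => by
        obtain ⟨r, rfl⟩ := Ideal.Quotient.mk_surjective r
        show Extension.Cotangent.val ((algebraMap E.Ring F r) • x) = Ideal.Quotient.mk J r • Extension.Cotangent.val x
        rw [algebraMap_smul]
        exact (Extension.Cotangent.val_smul' r x).trans (algebraMap_smul (E.Ring ⧸ J) r (Extension.Cotangent.val x)).symm }
  exact Module.Flat.of_linearEquiv eC.symm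

/-- The conormal module of a pushout of a flat algebra is the base change. -/
theorem flat_cotangent_pushout {A B k F : Type u} [CommRing A] [CommRing B] [Algebra A B] [Module.Flat A B]
    [CommRing k] [Algebra A k] (P : Extension.{u} A B) [Module.Flat B P.Cotangent]
    [CommRing F] [Algebra A F] [Algebra B F] [IsScalarTower A B F] (E : Extension.{u} A F) (f : P.Hom E)
    [alg : Algebra P.Ring E.Ring] (halg : algebraMap P.Ring E.Ring = f.toRingHom) [Algebra k E.Ring]
    [IsScalarTower A k E.Ring] [IsScalarTower A P.Ring E.Ring] [Algebra.IsPushout A k P.Ring E.Ring]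
    (hker : E.ker ≤ P.ker.map (algebraMap P.Ring E.Ring)) :
    Module.Flat (E.Ring ⧸ E.ker) E.ker.Cotangent := by
  have H := bijective_mapKer f halg
    (lTensor_ker_subtype_injective (A := A) (B := B) (k := k) (T := P.Ring) (R := E.Ring) P.algebraMap_surjective) hker
  let e : F ⊗[B] P.Cotangent ≃ₗ[F] E.Cotangent := Extension.tensorCotangent f halg H
  haveI : Module.Flat F (F ⊗[B] P.Cotangent) := Module.Flat.baseChange B F P.Cotangent
  haveI : Module.Flat F E.Cotangent := Module.Flat.of_linearEquiv e.symm
  exact flat_ideal_cotangent E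

/-- An algebra with a section as an extension. -/
abbrev extOf (A : Type u) {F : Type u} [CommRing A] [CommRing F] [Algebra A F] (R : Type u) [CommRing R] [Algebra A R]
    [Algebra R F] [IsScalarTower A R F] (σ : F → R) (hσ : ∀ x, algebraMap R F (σ x) = x) : Extension.{u} A F :=
  { Ring := R, σ := σ, algebraMap_σ := hσ }

/-- Base change of the conormal module, on rings. -/
theorem flat_cotangent_pushout' {A B k F T R : Type u} [CommRing A] [CommRing B] [Algebra A B] [Module.Flat A B]
    [CommRing k] [Algebra A k] [CommRing F] [Algebra A F] [Algebra B F] [IsScalarTower A B F]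
    [CommRing T] [Algebra A T] [Algebra T B] [IsScalarTower A T B] (σ : B → T) (hσ : ∀ x, algebraMap T B (σ x) = x)
    [Module.Flat B (extOf A T σ hσ).Cotangent]
    [CommRing R] [Algebra A R] [Algebra k R] [Algebra T R] [IsScalarTower A k R] [IsScalarTower A T R]
    [Algebra.IsPushout A k T R] [Algebra R F] [IsScalarTower A R F]
    (hR : Function.Surjective (algebraMap R F))
    (hcomm : ∀ x : T, algebraMap R F (algebraMap T R x) = algebraMap B F (algebraMap T B x))
    (hker : RingHom.ker (algebraMap R F) ≤ (RingHom.ker (algebraMap T B)).map (algebraMap T R)) :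
    Module.Flat (R ⧸ RingHom.ker (algebraMap R F)) (RingHom.ker (algebraMap R F)).Cotangent :=
  flat_cotangent_pushout (k := k) (extOf A T σ hσ) (extOf A R (Function.surjInv hR) (Function.surjInv_eq hR))
    { toRingHom := algebraMap T R
      toRingHom_algebraMap := fun x => (IsScalarTower.algebraMap_apply A T R x).symm
      algebraMap_toRingHom := fun x => hcomm x } rfl hker

/-- Flat conormal module and flatness over the base make every fibre a complete intersection. -/
theorem isLCI_fibre {A B : Type u} [CommRing A] [CommRing B] [Algebra A B] [Module.Flat A B] {n : ℕ}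
    (P : Generators A B (Fin n)) [Module.Flat B P.toExtension.Cotangent] (k : Type u) [Field k] [Algebra A k] :
    LCI.IsLCI k (k ⊗[A] B) := by
  classical
  let val : Fin n → k ⊗[A] B := fun i => (1 : k) ⊗ₜ[A] P.val i
  let φ : MvPolynomial (Fin n) k →ₐ[k] k ⊗[A] B := MvPolynomial.aeval val
  have hmap : ∀ p, φ (MvPolynomial.map (algebraMap A k) p) = (1 : k) ⊗ₜ[A] MvPolynomial.aeval P.val p := fun p => by
    rw [MvPolynomial.aeval_map_algebraMap,
      show MvPolynomial.aeval val p = (Algebra.TensorProduct.includeRight : B →ₐ[A] k ⊗[A] B) (MvPolynomial.aeval P.val p) by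
        rw [MvPolynomial.comp_aeval_apply]; rfl]
    rfl
  have hφ : Function.Surjective φ := by
    intro z
    induction z using TensorProduct.induction_on with
    | zero => exact ⟨0, map_zero _⟩
    | tmul c b =>
      refine ⟨c • MvPolynomial.map (algebraMap A k) (P.σ b), ?_⟩
      rw [map_smul, hmap, P.aeval_val_σ, smul_tmul', smul_eq_mul, mul_one]
    | add a b ha hb =>
      obtain ⟨x, rfl⟩ := ha; obtain ⟨y, rfl⟩ := hb
      exact ⟨x + y, map_add _ _ _⟩
  have hker : RingHom.ker φ ≤ P.toExtension.ker.map (MvPolynomial.map (σ := Fin n) (algebraMap A k)) := by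
    intro q hq
    let e := MvPolynomial.algebraTensorAlgEquiv (σ := Fin n) A k
    have he : ∀ w, φ (e w) = Algebra.TensorProduct.map (AlgHom.id k k) (MvPolynomial.aeval (R := A) P.val) w := fun w => by
      induction w with
      | zero => simp
      | tmul s p =>
        rw [MvPolynomial.algebraTensorAlgEquiv_tmul, map_smul, hmap,
          Algebra.TensorProduct.map_tmul, AlgHom.id_apply, smul_tmul', smul_eq_mul, mul_one]
      | add a b ha hb => simp only [map_add, ha, hb]
    obtain ⟨w, rfl⟩ := e.surjective q
    have hw : w ∈ RingHom.ker (Algebra.TensorProduct.map (AlgHom.id k k) (MvPolynomial.aeval (R := A) P.val)) := by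
      rw [RingHom.mem_ker, ← he]; exact hq
    have hw' : w ∈ RingHom.ker (Algebra.TensorProduct.map (AlgHom.id A k) (MvPolynomial.aeval (R := A) P.val)) := hw
    rw [Algebra.TensorProduct.lTensor_ker (MvPolynomial.aeval (R := A) P.val)
      (fun b => ⟨P.σ b, P.aeval_val_σ b⟩)] at hw'
    have h2 := Ideal.mem_map_of_mem e.toRingEquiv.toRingHom hw'
    change _ ∈ Ideal.map e.toRingEquiv.toRingHom (Ideal.map
      (Algebra.TensorProduct.includeRight : MvPolynomial (Fin n) A →ₐ[A] k ⊗[A] MvPolynomial (Fin n) A).toRingHom _) at h2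
    rw [Ideal.map_map] at h2
    have hk : RingHom.ker (MvPolynomial.aeval (R := A) P.val) = P.toExtension.ker := by
      ext z
      rw [RingHom.mem_ker]
      exact Iff.of_eq (congrArg (· = 0) (RingHom.congr_fun P.algebraMap_eq z).symm)
    rw [hk] at h2
    have hcomp : e.toRingEquiv.toRingHom.comp
        (Algebra.TensorProduct.includeRight : MvPolynomial (Fin n) A →ₐ[A] k ⊗[A] MvPolynomial (Fin n) A).toRingHom =
        MvPolynomial.map (algebraMap A k) := RingHom.ext fun p => by
      show e ((1 : k) ⊗ₜ p) = MvPolynomial.map (algebraMap A k) p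
      rw [MvPolynomial.algebraTensorAlgEquiv_tmul, one_smul]
    rw [hcomp] at h2
    exact h2
  letI : Algebra (MvPolynomial (Fin n) k) (k ⊗[A] B) := φ.toRingHom.toAlgebra
  haveI : IsScalarTower A (MvPolynomial (Fin n) k) (k ⊗[A] B) :=
    IsScalarTower.of_algHom (φ.restrictScalars A)
  letI : Algebra (MvPolynomial (Fin n) A) B := P.toExtension.algebra₂
  haveI : IsScalarTower A (MvPolynomial (Fin n) A) B := P.toExtension.isScalarTower
  haveI : Module.Flat B (extOf A (MvPolynomial (Fin n) A) P.σ P.toExtension.algebraMap_σ).Cotangent :=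
    ‹Module.Flat B P.toExtension.Cotangent›
  haveI : Module.Flat ((MvPolynomial (Fin n) k) ⧸ RingHom.ker φ.toRingHom) (RingHom.ker φ.toRingHom).Cotangent :=
    flat_cotangent_pushout' (A := A) (B := B) (k := k) (T := MvPolynomial (Fin n) A) (R := MvPolynomial (Fin n) k) (F := k ⊗[A] B)
      P.σ P.toExtension.algebraMap_σ hφ
      (fun x => (hmap x).trans (congrArg ((1 : k) ⊗ₜ[A] ·) (RingHom.congr_fun P.algebraMap_eq x).symm)) hker
  let J : Ideal (MvPolynomial (Fin n) k) := RingHom.ker φ.toRingHom
  haveI : Module.Finite (MvPolynomial (Fin n) k) J.Cotangent := Module.Finite.of_surjective _ J.toCotangent_surjective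
  haveI : Module.Finite (MvPolynomial (Fin n) k ⧸ J) J.Cotangent :=
    Module.Finite.of_restrictScalars_finite (MvPolynomial (Fin n) k) _ _
  haveI : Module.FinitePresentation (MvPolynomial (Fin n) k ⧸ J) J.Cotangent := Module.finitePresentation_of_finite _ _
  haveI : Module.Projective (MvPolynomial (Fin n) k ⧸ J) J.Cotangent := Module.Flat.projective_of_finitePresentation
  have hd : ringKrullDim (MvPolynomial (Fin n) k) = n := by
    rw [MvPolynomial.ringKrullDim_of_isNoetherianRing, ringKrullDim_eq_zero_of_field, zero_add, Nat.card_fin]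
  haveI : IsRegularRing (MvPolynomial (Fin n) k) := inferInstance
  have hpd := DRingLib.hasProjectiveDimensionLT_of_regular (MvPolynomial (Fin n) k)
    (fun p => IsRegularRing.isRegularLocalRing_localization p.asIdeal) n hd J
  refine ⟨Algebra.FiniteType.of_surjective φ hφ, n, φ, hφ, fun p hp => ?_⟩
  obtain ⟨g, hg, rs, hrs, hgen⟩ := S2189.result J (n + 1) hpd p.asIdeal hp
  exact ⟨g, hg, rs, CILib.isKoszulRegularSeq_of_isWeaklyRegular rs hrs.toIsWeaklyRegular, hgen.symm⟩

/-- For a flat finitely presented algebra, tor amplitude `[-1, 0]` of `NL` characterises local complete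
intersections. -/
theorem amp_iff_isLCI {A B : Type u} [CommRing A] [CommRing B] [Algebra A B]
    [Module.Flat A B] [Algebra.FinitePresentation A B] :
    DRing.HasTorAmplitudeIn B (-1) 0 (LCI.NL A B) ↔ LCI.IsLCI A B := by
  refine ⟨fun h => ?_, fun h => (isPerfect_and_amp_of_isLCI h).2⟩
  obtain ⟨n, φ, hφ, -⟩ := Algebra.FinitePresentation.out (R := A) (A := B)
  haveI := (hasTorAmplitude_iff_flat (gens φ hφ)).1 h
  refine (CILib.isSyntomic_iff_flat_and_isLCI.1 ⟨inferInstance, inferInstance, fun p => ?_⟩).2
  exact CILib.isLCIOver_of_isSyntomic_field (CILib.isSyntomic_iff_flat_and_isLCI.2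
    ⟨inferInstance, isLCI_fibre (gens φ hφ) p.asIdeal.ResidueField⟩)

end Groth.Agent.NLLib
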