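import Groth.Agent.NLLib.SameVars
import Mathlib.Algebra.Homology.Homotopy

/-! The comparison of naive cotangent complexes under base change. -/

set_option autoImplicit false
set_option linter.style.haveILetI false
set_option backward.isDefEq.respectTransparency false

universe u

open CategoryTheory CategoryTheory.Limits TensorProduct Algebra

noncomputable section

namespace Groth.Agent.NLLib

section Double

variable {T : Type u} [CommRing T] {X₀ X₁ Y₀ Y₁ Z₀ Z₁ : ModuleCat.{u} T}
  (d : X₀ ⟶ X₁) (d' : Y₀ ⟶ Y₁) (d'' : Z₀ ⟶ Z₁)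

theorem rel_neg : (ComplexShape.up ℤ).Rel (-1) 0 := by simp

/-- The two-term complex in degrees `-1, 0`. -/
abbrev dbl : CochainComplex (ModuleCat.{u} T) ℤ := HomologicalComplex.double d rel_neg

/-- A map of two-term complexes. -/
def dblMap (a : X₀ ⟶ Y₀) (b : X₁ ⟶ Y₁) (comm : a ≫ d' = d ≫ b) : dbl d ⟶ dbl d' :=
  HomologicalComplex.mkHomFromDouble _ (by decide) (a ≫ (HomologicalComplex.doubleXIso₀ d' _).inv)
    (b ≫ (HomologicalComplex.doubleXIso₁ d' _ (by decide)).inv)
    (by rw [HomologicalComplex.double_d _ _ (by decide)]; simp only [Category.assoc, Iso.inv_hom_id_assoc];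
        rw [← Category.assoc, ← Category.assoc, comm])
    (fun k hk => (HomologicalComplex.isZero_double_X _ _ k (by simp at hk; omega) (by simp at hk; omega)).eq_of_tgt _ _)

@[simp]
theorem dblMap_f₀ (a : X₀ ⟶ Y₀) (b : X₁ ⟶ Y₁) (comm : a ≫ d' = d ≫ b) :
    (dblMap d d' a b comm).f (-1) = (HomologicalComplex.doubleXIso₀ d rel_neg).hom ≫ a ≫
      (HomologicalComplex.doubleXIso₀ d' rel_neg).inv :=
  HomologicalComplex.mkHomFromDouble_f₀ ..

@[simp]
theorem dblMap_f₁ (a : X₀ ⟶ Y₀) (b : X₁ ⟶ Y₁) (comm : a ≫ d' = d ≫ b) :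
    (dblMap d d' a b comm).f 0 = (HomologicalComplex.doubleXIso₁ d rel_neg (by decide)).hom ≫ b ≫
      (HomologicalComplex.doubleXIso₁ d' rel_neg (by decide)).inv :=
  HomologicalComplex.mkHomFromDouble_f₁ ..

theorem dblMap_comp (a : X₀ ⟶ Y₀) (b : X₁ ⟶ Y₁) (comm : a ≫ d' = d ≫ b) (a' : Y₀ ⟶ Z₀) (b' : Y₁ ⟶ Z₁)
    (comm' : a' ≫ d'' = d' ≫ b') (comm'') :
    dblMap d d' a b comm ≫ dblMap d' d'' a' b' comm' = dblMap d d'' (a ≫ a') (b ≫ b') comm'' := by
  apply HomologicalComplex.from_double_hom_ext <;> simp

theorem dblMap_id : dblMap d d (𝟙 _) (𝟙 _) (by simp) = 𝟙 _ := by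
  apply HomologicalComplex.from_double_hom_ext <;> simp

theorem isIso_dblMap (a : X₀ ⟶ Y₀) (b : X₁ ⟶ Y₁) (comm : a ≫ d' = d ≫ b) [IsIso a] [IsIso b] :
    IsIso (dblMap d d' a b comm) := by
  refine ⟨dblMap d' d (inv a) (inv b) ?_, ?_, ?_⟩
  · rw [IsIso.inv_comp_eq, ← Category.assoc, comm, Category.assoc, IsIso.hom_inv_id, Category.comp_id]
  all_goals apply HomologicalComplex.from_double_hom_ext <;> simp

/-- A map `X₁ ⟶ Y₀` witnessing homotopy of maps of two-term complexes. -/
def dblHomotopy (a a' : X₀ ⟶ Y₀) (b b' : X₁ ⟶ Y₁) (comm : a ≫ d' = d ≫ b) (comm' : a' ≫ d' = d ≫ b')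
    (s : X₁ ⟶ Y₀) (ha : a = d ≫ s + a') (hb : b = s ≫ d' + b') :
    Homotopy (dblMap d d' a b comm) (dblMap d d' a' b' comm') where
  hom i j :=
    if h : i = 0 ∧ j = -1 then
      eqToHom (by rw [h.1]) ≫ (HomologicalComplex.doubleXIso₁ d rel_neg (by decide)).hom ≫ s ≫
        (HomologicalComplex.doubleXIso₀ d' rel_neg).inv ≫ eqToHom (by rw [h.2])
    else 0
  zero i j hij := by
    rw [dif_neg]
    rintro ⟨rfl, rfl⟩
    exact hij rel_neg
  comm k := by
    by_cases h1 : k = -1
    · subst h1
      rw [dNext_eq _ rel_neg, prevD_eq _ (show (ComplexShape.up ℤ).Rel (-2) (-1) by simp),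
        dif_pos (show (0 : ℤ) = 0 ∧ (-1 : ℤ) = -1 from ⟨rfl, rfl⟩), dif_neg (by decide), zero_comp, add_zero,
        dblMap_f₀, dblMap_f₀, HomologicalComplex.double_d _ _ (by decide)]
      simp [ha]
    by_cases h0 : k = 0
    · subst h0
      rw [dNext_eq _ (show (ComplexShape.up ℤ).Rel 0 1 by simp), prevD_eq _ rel_neg,
        dif_pos (show (0 : ℤ) = 0 ∧ (-1 : ℤ) = -1 from ⟨rfl, rfl⟩), dif_neg (by decide), comp_zero, zero_add,
        dblMap_f₁, dblMap_f₁, HomologicalComplex.double_d _ _ (by decide)]
      simp [hb]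
    exact (HomologicalComplex.isZero_double_X _ _ k h1 h0).eq_of_src _ _

end Double

variable {R S R' S' : Type u} [CommRing R] [CommRing S] [CommRing R'] [CommRing S'] [Algebra R S]
  [Algebra R' S'] [Algebra R R'] [Algebra S S'] [Algebra R S'] [IsScalarTower R R' S'] [IsScalarTower R S S']

variable {P : Extension.{u} R S} {P' : Extension.{u} R' S'}

theorem bcMap_eq (f : P.Hom P') (c) :
    NLCx.bcMap f = dblMap (ModuleCat.ofHom (P.cotangentComplex.baseChange S')) (ModuleCat.ofHom P'.cotangentComplex)
      (ModuleCat.ofHom (LinearMap.liftBaseChange S' (Extension.Cotangent.map f)))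
      (ModuleCat.ofHom (LinearMap.liftBaseChange S' (Extension.CotangentSpace.map f))) c := rfl

theorem bc_comm (f : P.Hom P') :
    ModuleCat.ofHom (LinearMap.liftBaseChange S' (Extension.Cotangent.map f)) ≫ ModuleCat.ofHom P'.cotangentComplex =
      ModuleCat.ofHom (P.cotangentComplex.baseChange S') ≫
        ModuleCat.ofHom (LinearMap.liftBaseChange S' (Extension.CotangentSpace.map f)) := by
  ext x
  simpa using (Extension.CotangentSpace.map_cotangentComplex f x).symm

theorem map_comm {P'' : Extension.{u} R' S'} (g : P'.Hom P'') :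
    ModuleCat.ofHom (Extension.Cotangent.map g) ≫ ModuleCat.ofHom P''.cotangentComplex =
      ModuleCat.ofHom P'.cotangentComplex ≫ ModuleCat.ofHom (Extension.CotangentSpace.map g) := by
  ext x
  simpa using (Extension.CotangentSpace.map_cotangentComplex g x).symm

theorem map_eq_dblMap {P'' : Extension.{u} R' S'} (g : P'.Hom P'') :
    NLCx.map g = dblMap (ModuleCat.ofHom P'.cotangentComplex) (ModuleCat.ofHom P''.cotangentComplex)
      (ModuleCat.ofHom (Extension.Cotangent.map g)) (ModuleCat.ofHom (Extension.CotangentSpace.map g)) (map_comm g) :=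
  rfl

/-- Homotopic comparison maps. -/
def bcHomotopy (f g : P.Hom P') : Homotopy (NLCx.bcMap f) (NLCx.bcMap g) :=
  dblHomotopy _ _ _ _ _ _ (bc_comm f) (bc_comm g) (ModuleCat.ofHom (LinearMap.liftBaseChange S' (f.sub g)))
    (by
      ext x
      have h := LinearMap.congr_fun (Extension.Cotangent.map_sub_map f g) x
      simp only [LinearMap.sub_apply, LinearMap.comp_apply] at h
      simpa [sub_eq_iff_eq_add] using congrArg Extension.Cotangent.val h)
    (by
      ext x
      have h := LinearMap.congr_fun (Extension.CotangentSpace.map_sub_map f g) x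
      simp only [LinearMap.sub_apply, LinearMap.comp_apply, LinearMap.restrictScalars_apply] at h
      simpa [sub_eq_iff_eq_add] using h)

/-- Homotopic maps of presentations. -/
def mapHomotopy {P'' : Extension.{u} R' S'} (f g : P'.Hom P'') : Homotopy (NLCx.map f) (NLCx.map g) :=
  dblHomotopy _ _ _ _ _ _ (map_comm f) (map_comm g) (ModuleCat.ofHom (f.sub g))
    (by
      refine ModuleCat.hom_ext (LinearMap.ext fun x => ?_)
      have h := LinearMap.congr_fun (Extension.Cotangent.map_sub_map f g) x
      simp only [LinearMap.sub_apply, LinearMap.comp_apply] at h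
      simpa [sub_eq_iff_eq_add] using h)
    (by
      refine ModuleCat.hom_ext (LinearMap.ext fun x => ?_)
      have h := LinearMap.congr_fun (Extension.CotangentSpace.map_sub_map f g) x
      simp only [LinearMap.sub_apply, LinearMap.comp_apply, LinearMap.restrictScalars_apply] at h
      simpa [sub_eq_iff_eq_add] using h)

theorem bcMap_comp {P'' : Extension.{u} R' S'} (f : P.Hom P') (g : P'.Hom P'') :
    NLCx.bcMap (g.comp f) = NLCx.bcMap f ≫ NLCx.map g := by
  rw [bcMap_eq _ (bc_comm _), bcMap_eq _ (bc_comm _), map_eq_dblMap, dblMap_comp _ _ _ _ _ _ _ _ _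
    (by rw [Category.assoc, map_comm, ← Category.assoc, bc_comm, Category.assoc])]
  · congr 1 <;> ext x
    · simp [Extension.Cotangent.map_comp]
    · simp [Extension.CotangentSpace.map_comp]

theorem map_comp {P'' P₃ : Extension.{u} R' S'} (f : P'.Hom P'') (g : P''.Hom P₃) :
    NLCx.map (g.comp f) = NLCx.map f ≫ NLCx.map g := by
  rw [map_eq_dblMap, map_eq_dblMap, map_eq_dblMap, dblMap_comp _ _ _ _ _ _ _ _ _
    (by rw [Category.assoc, map_comm, ← Category.assoc, map_comm, Category.assoc])]
  · congr 1 <;> ext x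
    · simp [Extension.Cotangent.map_comp]
    · simp [Extension.CotangentSpace.map_comp]

theorem map_id' : NLCx.map (Extension.Hom.id P') = 𝟙 _ := by
  rw [map_eq_dblMap]
  refine Eq.trans ?_ (dblMap_id _)
  congr 1 <;> ext x
  · simp [Extension.Cotangent.map_id]
  · simp [Extension.CotangentSpace.map_id]

variable {ι : Type u} (G : Algebra.Generators R S ι) (G' : Algebra.Generators R' S' ι)
  (h : ∀ i, G'.val i = algebraMap S S' (G.val i)) [Algebra.IsPushout R R' S S']

theorem isIso_bcMap_sameVars
    (hinj : Function.Injective (((RingHom.ker (MvPolynomial.aeval G.val : MvPolynomial ι R →ₐ[R] S)).subtype.restrictScalars R).lTensor R')) :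
    IsIso (NLCx.bcMap (S' := S') (NLCx.sameVarsHom G G' h).toExtensionHom) := by
  rw [bcMap_eq _ (bc_comm _)]
  haveI : IsIso (ModuleCat.ofHom (LinearMap.liftBaseChange S'
      (Extension.Cotangent.map (NLCx.sameVarsHom G G' h).toExtensionHom))) :=
    (ConcreteCategory.isIso_iff_bijective _).mpr ⟨cotangent_injective h hinj, cotangent_surjective h⟩
  haveI : IsIso (ModuleCat.ofHom (LinearMap.liftBaseChange S'
      (Extension.CotangentSpace.map (NLCx.sameVarsHom G G' h).toExtensionHom))) :=
    (ConcreteCategory.isIso_iff_bijective _).mpr (cotangentSpace_bijective h)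
  exact isIso_dblMap _ _ _ _ _

theorem bcH1Map_sameVars_surjective :
    Function.Surjective (NLCx.bcH1Map (NLCx.sameVarsHom G G' h).toExtensionHom) := by
  intro y
  obtain ⟨x, hx⟩ := cotangent_surjective h y.1
  have hx' : x ∈ NLCx.bcH1 G.toExtension S' := by
    refine LinearMap.mem_ker.2 ((cotangentSpace_bijective h).1 ?_)
    rw [map_zero]
    have := congrArg (fun φ => φ.hom x) (bc_comm (NLCx.sameVarsHom G G' h).toExtensionHom)
    refine this.symm.trans ?_
    show G'.toExtension.cotangentComplex (LinearMap.liftBaseChange S' _ x) = 0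
    rw [hx]
    exact LinearMap.mem_ker.1 y.2
  exact ⟨⟨x, hx'⟩, Subtype.ext hx⟩

variable (R S R' S')

theorem exists_baseChange_gens : ∃ G' : Algebra.Generators R' S' S,
    ∀ s, G'.val s = algebraMap S S' ((Algebra.Generators.self R S).val s) := by
  refine ⟨Algebra.Generators.ofSurjective (fun s => algebraMap S S' s) fun z => ?_, fun s => rfl⟩
  haveI : Algebra.IsPushout R R' S S' := ‹_›
  induction z using Algebra.IsPushout.out (R := R) (S := R') (R' := S) (S' := S').inductionOn with
  | zero => exact ⟨0, map_zero _⟩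
  | tmul s => exact ⟨MvPolynomial.X s, MvPolynomial.aeval_X _ _⟩
  | smul a z hz =>
    obtain ⟨p, rfl⟩ := hz
    exact ⟨a • p, map_smul _ a p⟩
  | add a b ha hb =>
    obtain ⟨p, rfl⟩ := ha
    obtain ⟨q, rfl⟩ := hb
    exact ⟨p + q, map_add _ p q⟩

/-- Base change for the presentations on all elements. -/
theorem exists_homotopyEquiv_self
    (hinj : ∀ (J : Ideal (MvPolynomial S R)), J = RingHom.ker (MvPolynomial.aeval (Algebra.Generators.self R S).val : MvPolynomial S R →ₐ[R] S) →
      Function.Injective ((J.subtype.restrictScalars R).lTensor R')) :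
    ∃ e : HomotopyEquiv (NLCx.bcCx (Algebra.Generators.self R S).toExtension S')
        (NLCx.cx (Algebra.Generators.self R' S').toExtension), e.hom = NLCx.bcMapSelf R S R' S' := by
  obtain ⟨G', h'⟩ := exists_baseChange_gens R S R' S'
  let G := Algebra.Generators.self R S
  let G₂ := Algebra.Generators.self R' S'
  let s := (NLCx.sameVarsHom G G' h').toExtensionHom
  haveI : IsIso (NLCx.bcMap (S' := S') s) := isIso_bcMap_sameVars G G' h' (hinj _ rfl)
  let F := NLCx.bcMap (S' := S') s
  let f' := (G'.defaultHom G₂).toExtensionHom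
  let g' := (G₂.defaultHom G').toExtensionHom
  let H₀ : Homotopy (NLCx.bcMapSelf R S R' S') (F ≫ NLCx.map f') :=
    (bcHomotopy (G.defaultHom G₂).toExtensionHom (f'.comp s)).trans (Homotopy.ofEq (bcMap_comp _ _))
  let e : HomotopyEquiv (NLCx.bcCx G.toExtension S') (NLCx.cx G₂.toExtension) :=
    { hom := NLCx.bcMapSelf R S R' S'
      inv := NLCx.map g' ≫ inv F
      homotopyHomInvId :=
        (H₀.compRight (NLCx.map g' ≫ inv F)).trans
          ((Homotopy.ofEq (by simp only [map_comp, Category.assoc])).trans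
            ((((mapHomotopy (g'.comp f') (Extension.Hom.id _)).compRight (inv F)).compLeft F).trans
              (Homotopy.ofEq (by rw [map_id', Category.id_comp, IsIso.hom_inv_id]))))
      homotopyInvHomId :=
        (H₀.compLeft (NLCx.map g' ≫ inv F)).trans
          ((Homotopy.ofEq (by simp only [map_comp, Category.assoc, IsIso.inv_hom_id_assoc])).trans
            ((mapHomotopy (f'.comp g') (Extension.Hom.id _)).trans (Homotopy.ofEq map_id'))) }
  exact ⟨e, rfl⟩

theorem bcH1Map_self_surjective :
    Function.Surjective (NLCx.bcH1Map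
      ((Algebra.Generators.self R S).defaultHom (Algebra.Generators.self R' S')).toExtensionHom) := by
  obtain ⟨G', h'⟩ := exists_baseChange_gens R S R' S'
  let G := Algebra.Generators.self R S
  let G₂ := Algebra.Generators.self R' S'
  let s := (NLCx.sameVarsHom G G' h').toExtensionHom
  let f' := (G'.defaultHom G₂).toExtensionHom
  let f := (G.defaultHom G₂).toExtensionHom
  intro y
  obtain ⟨z, hz⟩ := (Extension.H1Cotangent.equiv f' (G₂.defaultHom G').toExtensionHom).surjective y
  obtain ⟨x, hx⟩ := bcH1Map_sameVars_surjective G G' h' z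
  refine ⟨x, Subtype.ext ?_⟩
  rw [← hz, ← hx]
  show LinearMap.liftBaseChange S' (Extension.Cotangent.map f) x.1 =
    Extension.Cotangent.map f' (LinearMap.liftBaseChange S' (Extension.Cotangent.map s) x.1)
  have key : LinearMap.liftBaseChange S' (Extension.Cotangent.map f) =
      LinearMap.liftBaseChange S' (f.sub (f'.comp s)) ∘ₗ G.toExtension.cotangentComplex.baseChange S' +
        Extension.Cotangent.map f' ∘ₗ LinearMap.liftBaseChange S' (Extension.Cotangent.map s) := by
    ext v
    have h := LinearMap.congr_fun (Extension.Cotangent.map_sub_map f (f'.comp s)) v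
    simp only [LinearMap.sub_apply, LinearMap.comp_apply, Extension.Cotangent.map_comp,
      LinearMap.restrictScalars_apply] at h
    simpa [sub_eq_iff_eq_add] using congrArg Extension.Cotangent.val h
  rw [key, LinearMap.add_apply, LinearMap.comp_apply, LinearMap.mem_ker.1 x.2, map_zero, zero_add,
    LinearMap.comp_apply]

end Groth.Agent.NLLib
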