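import Mathlib
import Groth.Prelude.Def_LCI2
import Groth.Agent.DRingLib.HomProj
import Groth.Agent.DRingLib.TwoTermExt
import Groth.Agent.DRingLib.Resolution
import Groth.Agent.DRingLib.TorDim

/-!
# The naive cotangent complex does not depend on the presentation
-/

set_option autoImplicit false
set_option linter.style.haveILetI false

universe u

open CategoryTheory CategoryTheory.Limits Algebra

attribute [local instance] HasDerivedCategory.standard

noncomputable section

namespace Groth.Agent.NLLib

variable {A B : Type u} [CommRing A] [CommRing B] [Algebra A B]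

/-- The two-term complex of an extension. -/
def cx (P : Extension.{u} A B) : DRing.Cx B :=
  HomologicalComplex.double (ModuleCat.ofHom P.cotangentComplex)
    (show (ComplexShape.up ℤ).Rel (-1) 0 by simp)

theorem rel : (ComplexShape.up ℤ).Rel (-1) 0 := by simp

theorem ne : (-1 : ℤ) ≠ 0 := by decide

/-- Degree `-1`. -/
def e₁ (P : Extension.{u} A B) : (cx P).X (-1) ≃ₗ[B] P.Cotangent :=
  (HomologicalComplex.doubleXIso₀ (ModuleCat.ofHom P.cotangentComplex) rel).toLinearEquiv

/-- Degree `0`. -/
def e₀ (P : Extension.{u} A B) : (cx P).X 0 ≃ₗ[B] P.CotangentSpace :=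
  (HomologicalComplex.doubleXIso₁ (ModuleCat.ofHom P.cotangentComplex) rel ne).toLinearEquiv

theorem e₀_d (P : Extension.{u} A B) (x : (cx P).X (-1)) :
    e₀ P (((cx P).d (-1) 0).hom x) = P.cotangentComplex (e₁ P x) := by
  show e₀ P ((HomologicalComplex.double (ModuleCat.ofHom P.cotangentComplex) rel).d (-1) 0 x) = _
  rw [HomologicalComplex.double_d _ _ ne]
  exact LinearEquiv.apply_symm_apply (e₀ P) _

theorem vanishesOutside_cx (P : Extension.{u} A B) : DRing.VanishesOutside (cx P) (-1) 0 := fun i hi =>
  HomologicalComplex.isZero_double_X _ _ i (by omega) (by omega)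

theorem toKaehler_map {P P' : Extension.{u} A B} (f : P.Hom P') (x : P.CotangentSpace) :
    P'.toKaehler (Extension.CotangentSpace.map f x) = P.toKaehler x := by
  induction x using TensorProduct.induction_on with
  | zero => simp
  | tmul s y =>
    obtain ⟨t, rfl⟩ := KaehlerDifferential.linearCombination_surjective A P.Ring y
    induction t using Finsupp.induction_linear with
    | zero => simp
    | add a b ha hb => simp only [map_add, TensorProduct.tmul_add, ha, hb]
    | single a r =>
      rw [Finsupp.linearCombination_single, TensorProduct.tmul_smul, ← algebraMap_smul B r, map_smul, map_smul,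
        map_smul, Extension.CotangentSpace.map_tmul]
      simp [KaehlerDifferential.mapBaseChange_tmul, f.algebraMap_toRingHom]
  | add a b ha hb => simp only [map_add, ha, hb]

/-- The chain map of a morphism of extensions. -/
def cxMap {P P' : Extension.{u} A B} (f : P.Hom P') : cx P ⟶ cx P' :=
  HomologicalComplex.mkHomFromDouble rel ne
    (ModuleCat.ofHom (Extension.Cotangent.map f) ≫ (HomologicalComplex.doubleXIso₀ (ModuleCat.ofHom P'.cotangentComplex) rel).inv)
    (ModuleCat.ofHom (Extension.CotangentSpace.map f) ≫ (HomologicalComplex.doubleXIso₁ (ModuleCat.ofHom P'.cotangentComplex) rel ne).inv)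
    (by
      ext x
      apply (e₀ P').injective
      show e₀ P' (((cx P').d (-1) 0).hom ((e₁ P').symm (Extension.Cotangent.map f x))) =
        e₀ P' ((e₀ P').symm (Extension.CotangentSpace.map f (P.cotangentComplex x)))
      rw [e₀_d, LinearEquiv.apply_symm_apply, LinearEquiv.apply_symm_apply, Extension.CotangentSpace.map_cotangentComplex])
    (fun k hk => (vanishesOutside_cx P' k (Or.inr (by simp only [ComplexShape.up_Rel] at hk; omega))).eq_of_tgt _ _)

theorem cxMap_f₁ {P P' : Extension.{u} A B} (f : P.Hom P') (x : (cx P).X (-1)) :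
    e₁ P' (((cxMap f).f (-1)).hom x) = Extension.Cotangent.map f (e₁ P x) := by
  rw [cxMap, HomologicalComplex.mkHomFromDouble_f₀]
  exact LinearEquiv.apply_symm_apply (e₁ P') _

theorem cxMap_f₀ {P P' : Extension.{u} A B} (f : P.Hom P') (x : (cx P).X 0) :
    e₀ P' (((cxMap f).f 0).hom x) = Extension.CotangentSpace.map f (e₀ P x) := by
  rw [cxMap, HomologicalComplex.mkHomFromDouble_f₁]
  exact LinearEquiv.apply_symm_apply (e₀ P') _

/-- A morphism of extensions with one in the opposite direction is a quasi-isomorphism of the two-term complexes. -/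
theorem quasiIso_cxMap {P P' : Extension.{u} A B} (f : P.Hom P') (g : P'.Hom P) : QuasiIso (cxMap f) := by
  let H := Extension.H1Cotangent.equiv f g
  refine DRingLib.quasiIso_of_elements _ (fun n x hx hw => ?_) (fun n y hy => ?_)
  · obtain ⟨w, hw⟩ := hw
    by_cases h1 : n = -1
    · subst h1
      have hd : P.cotangentComplex (e₁ P x) = 0 := by
        rw [← e₀_d]; exact (congrArg (e₀ P) hx).trans (map_zero _)
      have hw0 : ((cxMap f).f (-1)).hom x = 0 := by
        haveI := ModuleCat.subsingleton_of_isZero (vanishesOutside_cx P' (-1 - 1) (Or.inl (by omega)))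
        rw [← hw, Subsingleton.elim w 0, map_zero]
      have h2 : Extension.Cotangent.map f (e₁ P x) = 0 := by rw [← cxMap_f₁, hw0, map_zero]
      have h3 : H ⟨e₁ P x, hd⟩ = 0 := Subtype.ext h2
      have h4 := H.map_eq_zero_iff.1 h3
      exact ⟨0, by rw [map_zero]; exact ((e₁ P).map_eq_zero_iff.1 (congrArg Subtype.val h4)).symm⟩
    by_cases h0 : n = 0
    · subst h0
      have h2 : Extension.CotangentSpace.map f (e₀ P x) = P'.cotangentComplex (e₁ P' w) := by
        rw [← cxMap_f₀, ← hw]
        exact e₀_d P' w
      have h3 : P.toKaehler (e₀ P x) = 0 := by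
        rw [← toKaehler_map f, h2]
        exact P'.exact_cotangentComplex_toKaehler.apply_apply_eq_zero _
      obtain ⟨v, hv⟩ := (P.exact_cotangentComplex_toKaehler _).1 h3
      refine ⟨(e₁ P).symm v, (e₀ P).injective ?_⟩
      show e₀ P (((cx P).d (-1) 0).hom ((e₁ P).symm v)) = _
      rw [e₀_d, LinearEquiv.apply_symm_apply, hv]
    · haveI := ModuleCat.subsingleton_of_isZero (vanishesOutside_cx P n (by omega))
      exact ⟨0, Subsingleton.elim _ _⟩
  · by_cases h1 : n = -1
    · subst h1
      have hd : P'.cotangentComplex (e₁ P' y) = 0 := by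
        rw [← e₀_d]; exact (congrArg (e₀ P') hy).trans (map_zero _)
      obtain ⟨⟨a, ha⟩, hax⟩ := H.surjective ⟨e₁ P' y, hd⟩
      refine ⟨(e₁ P).symm a, 0, (e₀ P).injective ?_, (e₁ P').injective ?_⟩
      · rw [map_zero]
        show e₀ P (((cx P).d (-1) 0).hom ((e₁ P).symm a)) = 0
        rw [e₀_d, LinearEquiv.apply_symm_apply]
        exact ha
      · rw [map_zero, add_zero, cxMap_f₁, LinearEquiv.apply_symm_apply]
        exact congrArg Subtype.val hax
    by_cases h0 : n = 0
    · subst h0
      obtain ⟨x, hx⟩ := P.toKaehler_surjective (P'.toKaehler (e₀ P' y))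
      have h2 : P'.toKaehler (Extension.CotangentSpace.map f x - e₀ P' y) = 0 := by
        rw [map_sub, toKaehler_map, hx, sub_self]
      obtain ⟨v, hv⟩ := (P'.exact_cotangentComplex_toKaehler _).1 h2
      refine ⟨(e₀ P).symm x, (e₁ P').symm v, ?_, (e₀ P').injective ?_⟩
      · haveI := ModuleCat.subsingleton_of_isZero (vanishesOutside_cx P (0 + 1) (Or.inr (by omega)))
        exact Subsingleton.elim _ _
      · rw [cxMap_f₀, LinearEquiv.apply_symm_apply, map_add]
        show _ = _ + e₀ P' (((cx P').d (-1) 0).hom ((e₁ P').symm v))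
        rw [e₀_d, LinearEquiv.apply_symm_apply, hv, add_sub_cancel]
    · haveI := ModuleCat.subsingleton_of_isZero (vanishesOutside_cx P' n (by omega))
      exact ⟨0, 0, map_zero _, Subsingleton.elim _ _⟩

/-- The naive cotangent complex computed by an arbitrary presentation. -/
theorem nonempty_iso_NL {ι : Type} (P : Generators A B ι) :
    Nonempty (DRing.toD (cx P.toExtension) ≅ LCI.NL A B) := by
  let f := (Generators.defaultHom P (Generators.self A B)).toExtensionHom
  let g := (Generators.defaultHom (Generators.self A B) P).toExtensionHom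
  exact ⟨@asIso _ _ _ _ _ (DRingLib.isIso_Q_of_qis (cxMap f) (quasiIso_cxMap f g))⟩

/-- Tor amplitude `[-1, 0]` of a two-term complex ending in a free module is flatness of the conormal module. -/
theorem hasTorAmplitude_iff_flat {ι : Type} (P : Generators A B ι) :
    DRing.HasTorAmplitudeIn B (-1) 0 (LCI.NL A B) ↔ Module.Flat B P.toExtension.Cotangent := by
  obtain ⟨e⟩ := nonempty_iso_NL P
  haveI : Module.Free B ((cx P.toExtension).X 0) :=
    Module.Free.of_basis (P.cotangentSpaceBasis.map (e₀ P.toExtension).symm)
  constructor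
  · intro h
    obtain ⟨Q, a, b, -⟩ := DRingLib.exists_pres_of_cx (vanishesOutside_cx P.toExtension) inferInstance e
    have hF : Module.Flat B Q.F := Module.Flat.of_linearEquiv b.toLinearEquiv
    have h2 : DRing.HasTorAmplitudeIn B (-1 + 1) (0 + 1) (DRingLib.s0.obj Q.F) := by
      obtain ⟨E, hE, hEf, he⟩ := DRingLib.amp_inD_of_flat Q.F hF
      exact ⟨E, fun i hi => hE i (by omega), hEf, he⟩
    have h1 := DRingLib.amp_obj₁ _ Q.dist h2 h
    have hM : DRing.HasTorAmplitudeIn B 0 0 (DRingLib.s0.obj Q.M) :=
      DRingLib.hasTorAmplitudeIn_of_aboveZero (b := (0 + 1 : ℤ)) (c := 0) le_rfl h1 fun i hi =>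
        DerivedCategory.isZero_of_isLE (DRingLib.s0.obj Q.M) 0 i (by omega)
    haveI : Module.Flat B Q.M := DRingLib.flat_of_amp_inD Q.M hM
    haveI : Module.Flat B ((cx P.toExtension).X (-1)) := Module.Flat.of_linearEquiv a.toLinearEquiv.symm
    exact Module.Flat.of_linearEquiv (e₁ P.toExtension).symm
  · intro h
    refine ⟨cx P.toExtension, vanishesOutside_cx _, fun i => ?_, ⟨e⟩⟩
    by_cases h1 : i = -1
    · subst h1
      haveI := h
      exact Module.Flat.of_linearEquiv (e₁ P.toExtension)
    by_cases h0 : i = 0
    · subst h0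
      infer_instance
    · haveI := ModuleCat.subsingleton_of_isZero (vanishesOutside_cx P.toExtension i (by omega))
      infer_instance

/-- A finite projective conormal module makes `NL` perfect. -/
theorem isPerfect_NL {ι : Type} [Finite ι] (P : Generators A B ι) [Module.Finite B P.toExtension.Cotangent]
    [Module.Projective B P.toExtension.Cotangent] : DRing.IsPerfect B (LCI.NL A B) := by
  obtain ⟨e⟩ := nonempty_iso_NL P
  refine ⟨cx P.toExtension, -1, 0, vanishesOutside_cx _, fun i => ?_, ⟨e⟩⟩
  by_cases h1 : i = -1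
  · subst h1
    exact ⟨Module.Finite.equiv (e₁ P.toExtension).symm, Module.Projective.of_equiv (e₁ P.toExtension).symm⟩
  by_cases h0 : i = 0
  · subst h0
    haveI : Module.Free B ((cx P.toExtension).X 0) :=
      Module.Free.of_basis (P.cotangentSpaceBasis.map (e₀ P.toExtension).symm)
    exact ⟨Module.Finite.of_basis (P.cotangentSpaceBasis.map (e₀ P.toExtension).symm), inferInstance⟩
  · haveI := ModuleCat.subsingleton_of_isZero (vanishesOutside_cx P.toExtension i (by omega))
    exact ⟨inferInstance, inferInstance⟩

end Groth.Agent.NLLib
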