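import Groth.Agent.NLLib.BcCompare
import Groth.Agent.NLLib.Compare
import Groth.Agent.DRingLib.BaseChange
import Groth.Agent.FlatCx.BC

/-! Derived base change of the naive cotangent complex. -/

set_option autoImplicit false
set_option linter.style.haveILetI false
set_option backward.isDefEq.respectTransparency false

universe u

open CategoryTheory CategoryTheory.Limits TensorProduct Algebra
attribute [local instance] HasDerivedCategory.standard

noncomputable section

namespace Groth.Agent.NLLib

variable {A B B' : Type u} [CommRing A] [CommRing B] [CommRing B'] [Algebra A B] [Algebra B B']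

theorem flat_cotangent_of_amp (h : DRing.HasTorAmplitudeIn B (-1) 0 (LCI.NL A B)) :
    Module.Flat B (Algebra.Generators.self A B).toExtension.Cotangent := by
  let P := Algebra.Generators.self A B
  have e : DRing.toD (cx P.toExtension) ≅ LCI.NL A B := Iso.refl _
  haveI : Module.Free B ((cx P.toExtension).X 0) :=
    Module.Free.of_basis (P.cotangentSpaceBasis.map (e₀ P.toExtension).symm)
  obtain ⟨Q, a, b, -⟩ := DRingLib.exists_pres_of_cx (vanishesOutside_cx P.toExtension) inferInstance e
  have hF : Module.Flat B Q.F := Module.Flat.of_linearEquiv b.toLinearEquiv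
  have h2 : DRing.HasTorAmplitudeIn B (-1 + 1) (0 + 1) (DRingLib.s0.obj Q.F) := by
    obtain ⟨E, hE, hEf, he⟩ := DRingLib.amp_inD_of_flat Q.F hF
    exact ⟨E, fun i hi => hE i (by omega), hEf, he⟩
  have h1 := DRingLib.amp_obj₁ _ Q.dist h2 h
  have hM : DRing.HasTorAmplitudeIn B 0 0 (DRingLib.s0.obj Q.M) :=
    DRingLib.hasTorAmplitudeIn_of_aboveZero (b := (0 + 1 : ℤ)) (c := 0) le_rfl h1 fun i hi =>
      DerivedCategory.isZero_of_isLE (DRingLib.s0.obj Q.M) 0 i (by omega)
  haveI : Module.Flat B Q.M := DRingLib.flat_of_amp_inD Q.M hM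
  haveI : Module.Flat B ((cx P.toExtension).X (-1)) := Module.Flat.of_linearEquiv a.toLinearEquiv.symm
  exact Module.Flat.of_linearEquiv (e₁ P.toExtension).symm

variable (B') in
/-- Extension of scalars of a module. -/
def extIso (M : Type u) [AddCommGroup M] [Module B M] :
    (ModuleCat.extendScalars.{u, u, u} (algebraMap B B')).obj (ModuleCat.of B M) ≅ ModuleCat.of B' (B' ⊗[B] M) :=
  (FlatCx.eB B' (ModuleCat.of B M)).toModuleIso

/-- Extension of scalars of a two-term complex. -/
theorem nonempty_extCx_double {M N : Type u} [AddCommGroup M] [AddCommGroup N] [Module B M] [Module B N]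
    (g : M →ₗ[B] N) :
    Nonempty ((DTen.extCx (algebraMap B B')).obj (dbl (ModuleCat.ofHom g)) ≅
      dbl (ModuleCat.ofHom (g.baseChange B'))) := by
  let E := ModuleCat.extendScalars.{u, u, u} (algebraMap B B')
  let d := ModuleCat.ofHom g
  let d' := ModuleCat.ofHom (g.baseChange B')
  let i₀ : E.obj ((dbl d).X (-1)) ≅ (dbl d').X (-1) :=
    E.mapIso (HomologicalComplex.doubleXIso₀ d rel_neg) ≪≫ extIso B' M ≪≫
      (HomologicalComplex.doubleXIso₀ d' rel_neg).symm
  let i₁ : E.obj ((dbl d).X 0) ≅ (dbl d').X 0 :=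
    E.mapIso (HomologicalComplex.doubleXIso₁ d rel_neg (by decide)) ≪≫ extIso B' N ≪≫
      (HomologicalComplex.doubleXIso₁ d' rel_neg (by decide)).symm
  have hz : ∀ k : ℤ, k ≠ -1 → k ≠ 0 → IsZero (E.obj ((dbl d).X k)) := fun k h1 h0 =>
    E.map_isZero (HomologicalComplex.isZero_double_X _ _ k h1 h0)
  have nat : E.map d ≫ (extIso B' N).hom = (extIso B' M).hom ≫ d' :=
    ModuleCat.hom_ext (LinearMap.ext fun m => FlatCx.eB_naturality B' d m)
  refine ⟨HomologicalComplex.Hom.isoOfComponents (fun k =>
    if h1 : k = -1 then eqToIso (by subst h1; rfl) ≪≫ i₀ ≪≫ eqToIso (by subst h1; rfl)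
    else if h0 : k = 0 then eqToIso (by subst h0; rfl) ≪≫ i₁ ≪≫ eqToIso (by subst h0; rfl)
    else (hz k h1 h0).iso (HomologicalComplex.isZero_double_X _ _ k h1 h0)) fun i j hij => ?_⟩
  by_cases h1 : i = -1
  · subst h1
    obtain rfl : j = 0 := by simp at hij; omega
    rw [dif_pos rfl, dif_neg (by decide), dif_pos rfl]
    show (_ ≫ (E.map _ ≫ _ ≫ _) ≫ _) ≫ (dbl d').d (-1) 0 = E.map ((dbl d).d (-1) 0) ≫ _ ≫ (E.map _ ≫ _ ≫ _) ≫ _
    rw [HomologicalComplex.double_d _ _ (by decide), HomologicalComplex.double_d _ _ (by decide)]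
    simp only [eqToIso.hom, eqToHom_refl, Category.id_comp, Category.comp_id, Category.assoc,
      Iso.symm_hom, Iso.inv_hom_id_assoc, Functor.map_comp, Iso.map_inv_hom_id_assoc]
    erw [Category.id_comp, Category.id_comp, Iso.map_inv_hom_id_assoc, reassoc_of% nat]
  · rw [show (dbl d').d i j = 0 from HomologicalComplex.double_d_eq_zero₀ _ _ _ _ h1, comp_zero]
    show 0 = E.map ((dbl d).d i j) ≫ _
    rw [HomologicalComplex.double_d_eq_zero₀ _ _ _ _ h1, E.map_zero, zero_comp]

/-- Termwise base change of the naive cotangent complex. -/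
theorem nonempty_extCx_iso (P : Extension.{u} A B) :
    Nonempty ((DTen.extCx (algebraMap B B')).obj (NLCx.cx P) ≅ NLCx.bcCx P B') :=
  nonempty_extCx_double P.cotangentComplex

theorem isKFlat_cx (h : DRing.HasTorAmplitudeIn B (-1) 0 (LCI.NL A B)) :
    DRing.IsKFlat B (NLCx.cx (Algebra.Generators.self A B).toExtension) := by
  refine DRingLib.isKFlat_of_vanishesAbove (b := 0) (fun i hi => ?_) fun i => ?_
  · exact HomologicalComplex.isZero_double_X _ _ i (by omega) (by omega)
  let P := Algebra.Generators.self A B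
  haveI := flat_cotangent_of_amp h
  by_cases h1 : i = -1
  · subst h1
    exact Module.Flat.of_linearEquiv (e₁ P.toExtension)
  by_cases h0 : i = 0
  · subst h0
    haveI : Module.Free B ((cx P.toExtension).X 0) :=
      Module.Free.of_basis (P.cotangentSpaceBasis.map (e₀ P.toExtension).symm)
    exact inferInstanceAs (Module.Flat B ((cx P.toExtension).X 0))
  · haveI := ModuleCat.subsingleton_of_isZero (HomologicalComplex.isZero_double_X
      (ModuleCat.ofHom P.toExtension.cotangentComplex) rel_neg i h1 h0)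
    exact inferInstanceAs (Module.Flat B ((HomologicalComplex.double
      (ModuleCat.ofHom P.toExtension.cotangentComplex) rel_neg).X i))

end Groth.Agent.NLLib
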