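import Groth.Prelude.Def_SheafNL
import Mathlib.RingTheory.TensorProduct.MvPolynomial
import Mathlib.RingTheory.Flat.Stability
import Mathlib.RingTheory.Flat.Equalizer

/-! Base change of the naive cotangent complex of a polynomial presentation along a cocartesian square. -/

set_option autoImplicit false
set_option linter.style.haveILetI false
set_option backward.isDefEq.respectTransparency false

universe u

open TensorProduct MvPolynomial Algebra

noncomputable section

namespace Groth.Agent.NLLib

variable {R S R' S' : Type u} [CommRing R] [CommRing S] [CommRing R'] [CommRing S'] [Algebra R S]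
  [Algebra R' S'] [Algebra R R'] [Algebra S S'] [Algebra R S'] [IsScalarTower R R' S'] [IsScalarTower R S S']
  [Algebra.IsPushout R R' S S'] {ι : Type u} (G : Algebra.Generators R S ι) (G' : Algebra.Generators R' S' ι)

/-- Base change of the ambient polynomial ring, as a linear map. -/
def mu : R' ⊗[R] MvPolynomial ι R →ₗ[R'] MvPolynomial ι R' :=
  (algebraTensorAlgEquiv R R').toLinearMap

theorem mu_tmul (a : R') (p : MvPolynomial ι R) : mu (a ⊗ₜ[R] p) = a • MvPolynomial.map (algebraMap R R') p :=
  algebraTensorAlgEquiv_tmul ..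

theorem mu_injective : Function.Injective (mu (R := R) (R' := R') (ι := ι)) :=
  (algebraTensorAlgEquiv R R').injective

theorem exists_of_mem_map (J : Ideal (MvPolynomial ι R)) {q : MvPolynomial ι R'}
    (hq : q ∈ J.map (MvPolynomial.map (algebraMap R R'))) :
    ∃ w : R' ⊗[R] J, mu ((J.subtype.restrictScalars R).lTensor R' w) = q := by
  induction hq using Submodule.span_induction with
  | mem x hx =>
    obtain ⟨p, hp, rfl⟩ := hx
    exact ⟨1 ⊗ₜ ⟨p, hp⟩, by rw [LinearMap.lTensor_tmul, mu_tmul, one_smul]; rfl⟩
  | zero => exact ⟨0, by simp⟩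
  | add x y _ _ hx hy =>
    obtain ⟨a, rfl⟩ := hx
    obtain ⟨b, rfl⟩ := hy
    exact ⟨a + b, by simp⟩
  | smul a x hxm hx =>
    clear hxm
    obtain ⟨w, rfl⟩ := hx
    obtain ⟨a', rfl⟩ := (algebraTensorAlgEquiv (σ := ι) R R').surjective a
    induction a' with
    | zero => exact ⟨0, by simp⟩
    | add a b ha hb =>
      obtain ⟨v, hv⟩ := ha
      obtain ⟨v', hv'⟩ := hb
      exact ⟨v + v', by rw [map_add, map_add, hv, hv', map_add, add_smul]⟩
    | tmul r p =>
      induction w with
      | zero => exact ⟨0, by simp⟩
      | add a b ha hb =>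
        obtain ⟨v, hv⟩ := ha
        obtain ⟨v', hv'⟩ := hb
        exact ⟨v + v', by rw [map_add, map_add, hv, hv', map_add, map_add, smul_add]⟩
      | tmul s j =>
        refine ⟨(r * s) ⊗ₜ (p • j), ?_⟩
        simp only [LinearMap.lTensor_tmul, LinearMap.coe_restrictScalars, mu_tmul,
          algebraTensorAlgEquiv_tmul, Submodule.subtype_apply, SetLike.val_smul, smul_eq_mul, map_mul]
        rw [smul_mul_smul_comm]

variable {G G'} (h : ∀ i, G'.val i = algebraMap S S' (G.val i))

include h

theorem sameVars_toRingHom (p : G.toExtension.Ring) :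
    (NLCx.sameVarsHom G G' h).toExtensionHom.toRingHom p = MvPolynomial.map (algebraMap R R') p := by
  show aeval (fun i => (MvPolynomial.X i : MvPolynomial ι R')) (p : MvPolynomial ι R) = _
  have e : (aeval (fun i => (MvPolynomial.X i : MvPolynomial ι R')) : MvPolynomial ι R →ₐ[R] MvPolynomial ι R') =
      MvPolynomial.mapAlgHom (Algebra.ofId R R') := MvPolynomial.algHom_ext fun i => by
    rw [aeval_X]
    exact (MvPolynomial.map_X _ _).symm
  exact DFunLike.congr_fun e p

theorem aeval_map' (p : MvPolynomial ι R) :
    aeval G'.val (MvPolynomial.map (algebraMap R R') p) = algebraMap S S' (aeval G.val p) := by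
  rw [MvPolynomial.aeval_map_algebraMap, show G'.val = fun i => algebraMap S S' (G.val i) from funext h]
  rw [← IsScalarTower.toAlgHom_apply R S S', MvPolynomial.comp_aeval_apply]
  rfl

theorem ker_le_map :
    RingHom.ker (aeval G'.val : MvPolynomial ι R' →ₐ[R'] S') ≤
      (RingHom.ker (aeval G.val : MvPolynomial ι R →ₐ[R] S)).map (MvPolynomial.map (algebraMap R R')) := by
  let I := RingHom.ker (aeval G.val : MvPolynomial ι R →ₐ[R] S)
  let J := I.map (MvPolynomial.map (algebraMap R R'))
  let π := Ideal.Quotient.mkₐ R' J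
  let φ : MvPolynomial ι R →ₐ[R] MvPolynomial ι R' ⧸ J :=
    ((IsScalarTower.toAlgHom R (MvPolynomial ι R') (MvPolynomial ι R' ⧸ J)).comp
      (MvPolynomial.mapAlgHom (Algebra.ofId R R')))
  have hsurj : Function.Surjective (aeval G.val : MvPolynomial ι R →ₐ[R] S) := fun s => ⟨G.σ s, G.aeval_val_σ s⟩
  let e : S →ₐ[R] MvPolynomial ι R' ⧸ J := AlgHom.liftOfSurjective (aeval G.val) hsurj φ fun p hp =>
    Ideal.Quotient.eq_zero_iff_mem.2 (Ideal.mem_map_of_mem _ hp)
  haveI : Algebra.IsPushout R S R' S' := Algebra.IsPushout.symm ‹_›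
  let g : R' →ₐ[R] MvPolynomial ι R' ⧸ J := IsScalarTower.toAlgHom R R' _
  let d : S' →ₐ[R] MvPolynomial ι R' ⧸ J := Algebra.pushoutDesc (R := R) (S := S) (R' := R') S' e g (fun _ _ => mul_comm _ _)
  have key : ∀ q : MvPolynomial ι R', d (aeval G'.val q) = π q := fun q => by
    induction q using MvPolynomial.induction_on with
    | C a =>
      rw [aeval_C]
      exact Algebra.pushoutDesc_right S' e g _ a
    | add p q hp hq => rw [map_add, map_add, hp, hq, map_add]
    | mul_X p i hp =>
      rw [map_mul, map_mul, hp, map_mul, aeval_X, h i]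
      congr 1
      refine (Algebra.pushoutDesc_left S' e g _ (G.val i)).trans ?_
      have he : e (aeval G.val (MvPolynomial.X i : MvPolynomial ι R)) = φ (MvPolynomial.X i) :=
        AlgHom.liftOfSurjective_apply _ _ _ _ _
      rw [aeval_X] at he
      exact he.trans (congrArg π (MvPolynomial.map_X _ i))
  intro q hq
  refine Ideal.Quotient.eq_zero_iff_mem.1 ((key q).symm.trans ?_)
  rw [RingHom.mem_ker.1 hq, map_zero]

/-- The map on cotangent modules in degree `-1`. -/
theorem cotangent_surjective :
    Function.Surjective (LinearMap.liftBaseChange S'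
      (Extension.Cotangent.map (NLCx.sameVarsHom G G' h).toExtensionHom)) := by
  intro x
  obtain ⟨⟨q, hq⟩, rfl⟩ := Extension.Cotangent.mk_surjective x
  have hq' : (q : MvPolynomial ι R') ∈ (RingHom.ker (aeval G.val : MvPolynomial ι R →ₐ[R] S)).map
      (MvPolynomial.map (algebraMap R R')) := ker_le_map h (RingHom.mem_ker.2 (G'.aeval_val_eq_zero hq))
  obtain ⟨w, hw⟩ := exists_of_mem_map _ hq'
  clear hq'
  induction w generalizing q with
  | zero => exact ⟨0, by rw [map_zero]; simp at hw; subst hw; exact (map_zero Extension.Cotangent.mk).symm⟩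
  | tmul a p =>
    have hp : (p.1 : G.toExtension.Ring) ∈ G.toExtension.ker := by
      show p.1 ∈ G.ker
      rw [G.ker_eq_ker_aeval_val]
      exact p.2
    refine ⟨algebraMap R' S' a ⊗ₜ Extension.Cotangent.mk ⟨p.1, hp⟩, ?_⟩
    rw [LinearMap.liftBaseChange_tmul, Extension.Cotangent.map_mk]
    rw [show algebraMap R' S' a = algebraMap G'.toExtension.Ring S' (C a) from
      ((G'.algebraMap_apply _).trans (aeval_C G'.val a)).symm, algebraMap_smul, ← map_smul]
    refine congrArg Extension.Cotangent.mk (Subtype.ext ?_)
    show (C a : MvPolynomial ι R') * _ = q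
    rw [← hw, LinearMap.lTensor_tmul, mu_tmul, MvPolynomial.smul_eq_C_mul]
    congr 1
    exact sameVars_toRingHom h _
  | add v v' hv hv' =>
    rw [map_add, map_add] at hw
    have key : ∀ v : R' ⊗[R] RingHom.ker (aeval G.val : MvPolynomial ι R →ₐ[R] S),
        (mu ((Submodule.subtype _ |>.restrictScalars R).lTensor R' v) : MvPolynomial ι R') ∈ G'.toExtension.ker := fun v => by
      show _ ∈ G'.ker
      rw [G'.ker_eq_ker_aeval_val, RingHom.mem_ker]
      induction v with
      | zero => simp
      | add a b ha hb => simp only [map_add, ha, hb, add_zero]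
      | tmul a p =>
        simp only [LinearMap.lTensor_tmul, mu_tmul, map_smul]
        show a • aeval G'.val (MvPolynomial.map _ p.1) = 0
        rw [aeval_map' h, RingHom.mem_ker.1 p.2, map_zero, smul_zero]
    obtain ⟨a, ha⟩ := hv _ (key v) rfl
    obtain ⟨b, hb⟩ := hv' _ (key v') rfl
    refine ⟨a + b, ?_⟩
    rw [map_add, ha, hb, ← map_add]
    exact congrArg Extension.Cotangent.mk (Subtype.ext hw)

/-- Injectivity in degree `-1` when the kernel stays injective. -/
theorem cotangent_injective
    (hinj : Function.Injective (((RingHom.ker (aeval G.val : MvPolynomial ι R →ₐ[R] S)).subtype.restrictScalars R).lTensor R')) :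
    Function.Injective (LinearMap.liftBaseChange S'
      (Extension.Cotangent.map (NLCx.sameVarsHom G G' h).toExtensionHom)) := by
  let f := (NLCx.sameVarsHom G G' h).toExtensionHom
  let I := RingHom.ker (aeval G.val : MvPolynomial ι R →ₐ[R] S)
  have hker : G.toExtension.ker = I := G.ker_eq_ker_aeval_val
  let mk' : I →ₗ[R] G.toExtension.Cotangent :=
    (Extension.Cotangent.mk.restrictScalars R) ∘ₗ
      { toFun := fun p => ⟨p.1, hker.ge p.2⟩, map_add' := fun _ _ => rfl, map_smul' := fun _ _ => rfl }
  have hmk : Function.Surjective mk' := fun x => by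
    obtain ⟨p, rfl⟩ := Extension.Cotangent.mk_surjective x
    exact ⟨⟨p.1, hker.le p.2⟩, rfl⟩
  let c := Algebra.IsPushout.cancelBaseChange R R' S S' G.toExtension.Cotangent
  refine (injective_iff_map_eq_zero _).2 fun z hz => ?_
  obtain ⟨z', rfl⟩ := c.symm.surjective z
  obtain ⟨w, rfl⟩ := LinearMap.lTensor_surjective R' hmk z'
  -- the value is the class of the polynomial
  have hmem : ∀ v : R' ⊗[R] I, (mu ((I.subtype.restrictScalars R).lTensor R' v) : MvPolynomial ι R') ∈
      G'.toExtension.ker := fun v => by
    show _ ∈ G'.ker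
    rw [G'.ker_eq_ker_aeval_val, RingHom.mem_ker]
    induction v with
    | zero => simp
    | add a b ha hb => simp only [map_add, ha, hb, add_zero]
    | tmul a p =>
      simp only [LinearMap.lTensor_tmul, mu_tmul, map_smul]
      show a • aeval G'.val (MvPolynomial.map _ p.1) = 0
      rw [aeval_map' h, RingHom.mem_ker.1 p.2, map_zero, smul_zero]
  have hval : ∀ v : R' ⊗[R] I, LinearMap.liftBaseChange S' (Extension.Cotangent.map f) (c.symm (mk'.lTensor R' v)) =
      Extension.Cotangent.mk ⟨_, hmem v⟩ := fun v => by
    induction v with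
    | zero => simp only [map_zero]; exact (map_zero Extension.Cotangent.mk).symm.trans (congrArg _ (Subtype.ext (by simp)))
    | add a b ha hb =>
      simp only [map_add, ha, hb]
      exact (map_add Extension.Cotangent.mk _ _).symm.trans (congrArg _ (Subtype.ext (by simp only [map_add]; rfl)))
    | tmul a p =>
      rw [LinearMap.lTensor_tmul, Algebra.IsPushout.cancelBaseChange_symm_tmul, LinearMap.liftBaseChange_tmul]
      show _ • Extension.Cotangent.map f (Extension.Cotangent.mk _) = _
      rw [Extension.Cotangent.map_mk, show algebraMap R' S' a = algebraMap G'.toExtension.Ring S' (C a) from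
        ((G'.algebraMap_apply _).trans (aeval_C G'.val a)).symm, algebraMap_smul, ← map_smul]
      refine congrArg Extension.Cotangent.mk (Subtype.ext ?_)
      show (C a : MvPolynomial ι R') * _ = _
      refine Eq.trans ?_ (show (C a : MvPolynomial ι R') * MvPolynomial.map (algebraMap R R') p.1 = _ from ?_)
      · exact congrArg (C a * ·) (sameVars_toRingHom h _)
      · simp only [LinearMap.lTensor_tmul, mu_tmul, MvPolynomial.smul_eq_C_mul]
        rfl
  rw [hval, Extension.Cotangent.mk_eq_zero_iff] at hz
  have hz' : (mu ((I.subtype.restrictScalars R).lTensor R' w) : MvPolynomial ι R') ∈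
      (I ^ 2).map (MvPolynomial.map (algebraMap R R')) := by
    rw [Ideal.map_pow]
    refine Ideal.pow_right_mono (ker_le_map h) 2 ?_
    rw [← G'.ker_eq_ker_aeval_val]
    exact hz
  obtain ⟨w₂, hw₂⟩ := exists_of_mem_map _ hz'
  let incl : (I ^ 2 : Ideal _) →ₗ[R] I := (Submodule.inclusion (Ideal.pow_le_self two_ne_zero)).restrictScalars R
  have hw : incl.lTensor R' w₂ = w := by
    refine hinj (mu_injective (Eq.trans ?_ hw₂))
    rw [← LinearMap.lTensor_comp_apply]
    rfl
  have hzero : mk' ∘ₗ incl = 0 := LinearMap.ext fun p =>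
    (Extension.Cotangent.mk_eq_zero_iff _).2 ((congrArg (fun K : Ideal (MvPolynomial ι R) => K ^ 2) hker).ge p.2)
  rw [← hw, ← LinearMap.lTensor_comp_apply, hzero, LinearMap.lTensor_zero, LinearMap.zero_apply, map_zero]

/-- The map on cotangent spaces in degree `0` is bijective. -/
theorem cotangentSpace_bijective :
    Function.Bijective (LinearMap.liftBaseChange S'
      (Extension.CotangentSpace.map (NLCx.sameVarsHom G G' h).toExtensionHom)) := by
  have he : LinearMap.liftBaseChange S' (Extension.CotangentSpace.map (NLCx.sameVarsHom G G' h).toExtensionHom) =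
      ((G.cotangentSpaceBasis.baseChange S').equiv G'.cotangentSpaceBasis (Equiv.refl ι)).toLinearMap := by
    refine (G.cotangentSpaceBasis.baseChange S').ext fun i => ?_
    rw [LinearEquiv.coe_coe, Module.Basis.equiv_apply, Module.Basis.baseChange_apply, LinearMap.liftBaseChange_tmul,
      one_smul, Generators.cotangentSpaceBasis_apply, Generators.cotangentSpaceBasis_apply]
    refine (Extension.CotangentSpace.map_tmul (P := G.toExtension) _ _ _).trans ?_
    rw [map_one]
    congr 2
    exact (sameVars_toRingHom h _).trans (MvPolynomial.map_X _ _)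
  rw [he]
  exact LinearEquiv.bijective _

end Groth.Agent.NLLib
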